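import Mathlib.AlgebraicGeometry.Morphisms.Immersion
import Mathlib.AlgebraicGeometry.Morphisms.FiniteType
import Mathlib.AlgebraicGeometry.Morphisms.ClosedImmersion
import Mathlib.RingTheory.Localization.Away.Basic

/-!
# An immersion into an affine scheme comes from finitely many elements
-/

set_option autoImplicit false
universe u

open CategoryTheory Limits AlgebraicGeometry TopologicalSpace

namespace Groth.Agent.Lib.ImmSubalg

noncomputable section

variable {X : Scheme.{u}} {A B : CommRingCat.{u}}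

/-- Near a point, an immersion is a closed immersion into a basic open, and finitely many elements
of `B` already give that closed immersion. -/
theorem exists_local (u : X ⟶ Spec B) [IsImmersion u] (α : A ⟶ B)
    [LocallyOfFiniteType (u ≫ Spec.map α)] (x : X) :
    ∃ (c : B) (T : Finset B), x ∈ u ⁻¹ᵁ PrimeSpectrum.basicOpen c ∧
      ∀ (R : CommRingCat.{u}) (σ : R ⟶ B) (α' : A ⟶ R), α' ≫ σ = α →
        (↑T : Set B) ⊆ Set.range σ.hom → ∀ c' : R, σ.hom c' = c →
          IsImmersion ((u ⁻¹ᵁ PrimeSpectrum.basicOpen c).ι ≫ u ≫ Spec.map σ) := by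
  classical
  obtain ⟨O, C, hO, hC, hOC⟩ := u.isLocallyClosed_range
  have hx : u x ∈ O ∩ C := hOC ▸ Set.mem_range_self x
  obtain ⟨_, ⟨c, rfl⟩, hxc, hcO⟩ :=
    PrimeSpectrum.isTopologicalBasis_basic_opens.exists_subset_of_mem_open hx.1 hO
  let Z : X.Opens := u ⁻¹ᵁ PrimeSpectrum.basicOpen c
  let j : Spec (CommRingCat.of (Localization.Away c)) ⟶ Spec B :=
    Spec.map (CommRingCat.ofHom (algebraMap B (Localization.Away c)))
  haveI : IsOpenImmersion j := inferInstance
  have hj : Set.range j = (PrimeSpectrum.basicOpen c : Set (PrimeSpectrum B)) :=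
    PrimeSpectrum.localization_away_comap_range (Localization.Away c) c
  have hsub : Set.range (Z.ι ≫ u) ⊆ Set.range j := by
    rw [hj]
    rintro _ ⟨z, rfl⟩
    rw [Scheme.Hom.comp_apply]
    exact (z : Z).2
  let u' := IsOpenImmersion.lift j (Z.ι ≫ u) hsub
  have hu' : u' ≫ j = Z.ι ≫ u := IsOpenImmersion.lift_fac j _ hsub
  haveI : IsImmersion (u' ≫ j) := hu' ▸ (inferInstance : IsImmersion (Z.ι ≫ u))
  haveI : IsImmersion u' := IsImmersion.of_comp u' j
  have hrange : Set.range u' = j ⁻¹' C := by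
    ext y
    constructor
    · rintro ⟨z, rfl⟩
      show j (u' z) ∈ C
      rw [← Scheme.Hom.comp_apply, hu', Scheme.Hom.comp_apply]
      exact (hOC ▸ Set.mem_range_self (Z.ι z) : u (Z.ι z) ∈ O ∩ C).2
    · intro hy
      have hyc : j y ∈ (PrimeSpectrum.basicOpen c : Set (PrimeSpectrum B)) := hj ▸ Set.mem_range_self y
      obtain ⟨w, hw⟩ : j y ∈ Set.range u := hOC.symm ▸ ⟨hcO hyc, hy⟩
      have hwZ : w ∈ Z := show u w ∈ (PrimeSpectrum.basicOpen c : Set (PrimeSpectrum B)) from hw ▸ hyc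
      refine ⟨⟨w, hwZ⟩, (Scheme.Hom.isOpenEmbedding j).injective ?_⟩
      rw [← Scheme.Hom.comp_apply, hu', Scheme.Hom.comp_apply]
      exact hw
  haveI : IsClosedImmersion u' :=
    IsClosedImmersion.of_isPreimmersion u' (hrange ▸ hC.preimage j.continuous)
  haveI : IsAffine Z.toScheme := isAffine_of_isAffineHom u'
  let Q : CommRingCat.{u} := Γ(Z.toScheme, ⊤)
  let e : Z.toScheme ≅ Spec Q := Z.toScheme.isoSpec
  let q' : CommRingCat.of (Localization.Away c) ⟶ Q := Spec.preimage (e.inv ≫ u')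
  have hq' : Spec.map q' = e.inv ≫ u' := Spec.map_preimage _
  haveI : IsClosedImmersion (Spec.map q') := hq' ▸ inferInstance
  have hsurj : Function.Surjective q'.hom := by
    have h := (IsClosedImmersion.isAffine_surjective_of_isAffine (Spec.map q')).2
    have e1 : q' = (Scheme.ΓSpecIso _).inv ≫ (Spec.map q').appTop ≫ (Scheme.ΓSpecIso Q).hom := by
      rw [Scheme.ΓSpecIso_naturality, Iso.inv_hom_id_assoc]
    rw [e1]
    exact (ConcreteCategory.bijective_of_isIso (Scheme.ΓSpecIso Q).hom).2.comp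
      (h.comp (ConcreteCategory.bijective_of_isIso (Scheme.ΓSpecIso _).inv).2)
  let q : B ⟶ Q := CommRingCat.ofHom (algebraMap B (Localization.Away c)) ≫ q'
  have hq : e.hom ≫ Spec.map q = Z.ι ≫ u := by
    rw [Spec.map_comp, hq', ← Category.assoc, ← Category.assoc, e.hom_inv_id, Category.id_comp]
    exact hu'
  have hft : (α ≫ q).hom.FiniteType := by
    rw [← HasRingHomProperty.Spec_iff (P := @LocallyOfFiniteType)]
    have h1 : Spec.map (α ≫ q) = e.inv ≫ Z.ι ≫ u ≫ Spec.map α := by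
      rw [← Category.assoc Z.ι, ← hq, Category.assoc, Iso.inv_hom_id_assoc, Spec.map_comp]
    rw [h1]
    infer_instance
  algebraize [(α ≫ q).hom]
  obtain ⟨S, hS⟩ := hft.out
  have hsec : ∀ s : Q, ∃ (a : B) (n : ℕ), s * q.hom c ^ n = q.hom a := by
    intro s
    obtain ⟨t, rfl⟩ := hsurj s
    obtain ⟨⟨a, ⟨-, n, rfl⟩⟩, ht⟩ := IsLocalization.surj (Submonoid.powers c) t
    refine ⟨a, n, ?_⟩
    show q'.hom t * q'.hom (algebraMap _ _ c) ^ n = q'.hom (algebraMap _ _ a)
    rw [← ht, map_mul, map_pow, map_pow]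
  choose num n hn using hsec
  refine ⟨c, S.image num, hxc, fun R σ α' hα hT c' hc => ?_⟩
  have hu : IsUnit ((σ ≫ q).hom c') := by
    show IsUnit (q'.hom (algebraMap _ _ (σ.hom c')))
    rw [hc]
    exact (IsLocalization.Away.algebraMap_isUnit c).map _
  let qR : Localization.Away c' →+* Q := IsLocalization.Away.lift c' hu
  have hqR : ∀ r, qR (algebraMap R _ r) = q.hom (σ.hom r) := fun r => IsLocalization.Away.lift_eq c' hu r
  have hqRs : Function.Surjective qR := by
    intro y
    have hy : y ∈ Algebra.adjoin A (S : Set Q) := hS ▸ trivial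
    induction hy using Algebra.adjoin_induction with
    | mem s hs =>
      obtain ⟨a', ha'⟩ := hT (Finset.mem_image_of_mem num hs)
      refine ⟨algebraMap R _ a' * (IsLocalization.Away.invSelf c') ^ n s, ?_⟩
      rw [map_mul, map_pow, hqR, ha', ← hn s, mul_assoc, ← mul_pow]
      have h1 : q.hom c * qR (IsLocalization.Away.invSelf c') = 1 := by
        rw [← hc, ← hqR, ← map_mul, IsLocalization.Away.mul_invSelf, map_one]
      rw [h1, one_pow, mul_one]
    | algebraMap r =>
      refine ⟨algebraMap R _ (α'.hom r), ?_⟩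
      rw [hqR]
      show q.hom ((α' ≫ σ).hom r) = (α ≫ q).hom r
      rw [hα]
      rfl
    | add a b _ _ ha hb =>
      obtain ⟨a', rfl⟩ := ha
      obtain ⟨b', rfl⟩ := hb
      exact ⟨a' + b', map_add _ _ _⟩
    | mul a b _ _ ha hb =>
      obtain ⟨a', rfl⟩ := ha
      obtain ⟨b', rfl⟩ := hb
      exact ⟨a' * b', map_mul _ _ _⟩
  have hcomp : σ ≫ q =
      CommRingCat.ofHom (algebraMap R (Localization.Away c')) ≫ CommRingCat.ofHom qR :=
    CommRingCat.hom_ext (RingHom.ext fun r => (hqR r).symm)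
  haveI : IsClosedImmersion (Spec.map (CommRingCat.ofHom qR)) := IsClosedImmersion.spec_of_surjective _ hqRs
  show IsImmersion (Z.ι ≫ u ≫ Spec.map σ)
  rw [← Category.assoc, ← hq, Category.assoc, ← Spec.map_comp, hcomp, Spec.map_comp]
  infer_instance

/-- An immersion of a quasi-compact scheme, of finite type over `A`, into `Spec B` stays an immersion
in the spectrum of any algebra hitting finitely many elements. -/
theorem exists_finset (u : X ⟶ Spec B) [IsImmersion u] [CompactSpace X] (α : A ⟶ B)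
    [LocallyOfFiniteType (u ≫ Spec.map α)] :
    ∃ T : Finset B, ∀ (R : CommRingCat.{u}) (σ : R ⟶ B) (α' : A ⟶ R), α' ≫ σ = α →
        (↑T : Set B) ⊆ Set.range σ.hom → IsImmersion (u ≫ Spec.map σ) := by
  classical
  choose c T hxc hT using exists_local u α
  obtain ⟨s, hs⟩ := isCompact_univ.elim_finite_subcover
    (fun x : X => ((u ⁻¹ᵁ PrimeSpectrum.basicOpen (c x) : X.Opens) : Set X))
    (fun x => Opens.isOpen _) fun x _ => Set.mem_iUnion.mpr ⟨x, hxc x⟩
  refine ⟨s.image c ∪ s.biUnion T, fun R σ α' hα hsub => ?_⟩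
  have hc : ∀ x : s, ∃ c' : R, σ.hom c' = c x.1 := fun x =>
    hsub (Finset.mem_union_left _ (Finset.mem_image_of_mem c x.2))
  choose c' hc' using hc
  have hpre : ∀ x : s, (u ≫ Spec.map σ) ⁻¹ᵁ PrimeSpectrum.basicOpen (c' x) =
      u ⁻¹ᵁ PrimeSpectrum.basicOpen (c x.1) := by
    intro x
    rw [Scheme.Hom.comp_preimage]
    congr 1
    ext p
    show σ.hom (c' x) ∉ p.asIdeal ↔ c x.1 ∉ p.asIdeal
    rw [hc']
  haveI : MorphismProperty.RespectsRight @IsImmersion.{u} @IsOpenImmersion.{u} :=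
    ⟨fun i hi f hf => by haveI : IsOpenImmersion i := hi; haveI : IsImmersion f := hf; exact inferInstanceAs (IsImmersion (f ≫ i))⟩
  refine IsZariskiLocalAtTarget.of_range_subset_iSup
    (fun x : s => (PrimeSpectrum.basicOpen (c' x) : (Spec R).Opens)) ?_ fun x => ?_
  · rintro _ ⟨y, rfl⟩
    obtain ⟨x, hx, hyx⟩ := Set.mem_iUnion₂.mp (hs (Set.mem_univ y))
    refine Opens.mem_iSup.mpr ⟨⟨x, hx⟩, ?_⟩
    show y ∈ (u ≫ Spec.map σ) ⁻¹ᵁ PrimeSpectrum.basicOpen (c' ⟨x, hx⟩)
    rw [hpre]
    exact hyx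
  · have hTx : (↑(T x.1) : Set B) ⊆ Set.range σ.hom := fun t ht =>
      hsub (Finset.mem_union_right _ (Finset.mem_biUnion.mpr ⟨x.1, x.2, ht⟩))
    have h := hT x.1 R σ α' hα hTx (c' x) (hc' x)
    rw [← hpre x, ← morphismRestrict_ι] at h
    exact IsImmersion.of_comp _ (Scheme.Opens.ι (X := Spec R) (PrimeSpectrum.basicOpen (c' x)))

end

end Groth.Agent.Lib.ImmSubalg
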